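import Mathlib

/-! An isomorphism `A[[x,y]]/(xy-α) ≅ A[[x,y]]/(xy-β)` forces `α ∈ βA`. -/

universe u

namespace NodeDefLib

open MvPowerSeries IsLocalRing Finsupp

variable {A : Type u} [CommRing A]

local notation "P" => MvPowerSeries (Fin 2) A

lemma coeff_single_mul (a b : P) (i : Fin 2) :
    coeff (single i 1) (a * b) =
      constantCoeff a * coeff (single i 1) b + coeff (single i 1) a * constantCoeff b := by
  classical
  rw [coeff_mul]
  have : Finset.HasAntidiagonal.antidiagonal (single i 1 : Fin 2 →₀ ℕ) =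
      {(0, single i 1), (single i 1, 0)} := by
    rw [Finsupp.antidiagonal_single, Finset.Nat.antidiagonal_succ]
    simp
  rw [this, Finset.sum_pair (by simp [Prod.ext_iff, eq_comm (a := (0 : Fin 2 →₀ ℕ))])]
  simp [coeff_zero_eq_constantCoeff]

lemma coeff_single_mem (β : A) (z : P) (hz : z ∈ Ideal.span {(X 0 * X 1 - C β : P)}) :
    constantCoeff z ∈ Ideal.span {β} ∧ ∀ i, coeff (single i 1) z ∈ Ideal.span {β} := by
  obtain ⟨h, rfl⟩ := Ideal.mem_span_singleton.1 hz
  constructor
  · simp only [map_mul, map_sub, constantCoeff_X, constantCoeff_C, zero_mul, zero_sub, neg_mul]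
    exact neg_mem (Ideal.mul_mem_right _ _ (Ideal.mem_span_singleton_self β))
  · intro i
    rw [coeff_single_mul]
    have : coeff (single i 1) (X 0 * X 1 - C β : P) = 0 := by
      rw [map_sub, coeff_single_mul, constantCoeff_X, constantCoeff_X, coeff_C,
        if_neg (by simp)]
      simp
    rw [this, zero_mul, add_zero]
    simp only [map_mul, map_sub, constantCoeff_X, constantCoeff_C, zero_mul, zero_sub, neg_mul]
    exact neg_mem (Ideal.mul_mem_right _ _ (Ideal.mem_span_singleton_self β))

lemma exists_decomp (U : P) : ∃ U₁ U₂ : P, U = C (constantCoeff U) + X 0 * U₁ + X 1 * U₂ := by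
  classical
  let B : P := fun m => if m 0 = 0 ∧ m ≠ 0 then coeff m U else 0
  obtain ⟨U₂, hU₂⟩ : (X 1 : P) ∣ B := by
    rw [X_dvd_iff]
    intro m hm
    show (if m 0 = 0 ∧ m ≠ 0 then coeff m U else 0) = 0
    refine if_neg ?_
    rintro ⟨h0, hne⟩
    exact hne (Finsupp.ext fun i => by fin_cases i <;> assumption)
  obtain ⟨U₁, hU₁⟩ : (X 0 : P) ∣ U - C (constantCoeff U) - B := by
    rw [X_dvd_iff]
    intro m hm
    rw [map_sub, map_sub, coeff_C]
    show coeff m U - _ - (if m 0 = 0 ∧ m ≠ 0 then coeff m U else 0) = 0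
    by_cases h : m = 0
    · subst h; simp [coeff_zero_eq_constantCoeff]
    · rw [if_neg h, if_pos ⟨hm, h⟩]; simp
  exact ⟨U₁, U₂, by rw [← hU₁, ← hU₂]; ring⟩

variable [IsLocalRing A]

lemma constantCoeff_mem_of_iso {α β : A} (hα : α ∈ maximalIdeal A)
    (φ : (P ⧸ Ideal.span {(X 0 * X 1 - C α : P)}) ≃ₐ[A] (P ⧸ Ideal.span {(X 0 * X 1 - C β : P)}))
    (i : Fin 2) (F : P) (hF : φ (Ideal.Quotient.mk _ (X i)) = Ideal.Quotient.mk _ F) :
    constantCoeff F ∈ maximalIdeal A := by
  rw [mem_maximalIdeal, mem_nonunits_iff]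
  intro hu
  have hFu : IsUnit (Ideal.Quotient.mk (Ideal.span {(X 0 * X 1 - C β : P)}) F) :=
    ((isUnit_iff_constantCoeff).2 hu).map _
  rw [← hF, MulEquiv.isUnit_map] at hFu
  obtain ⟨v, hv⟩ := hFu.exists_right_inv
  obtain ⟨V, rfl⟩ := Ideal.Quotient.mk_surjective v
  rw [← map_mul, ← map_one (Ideal.Quotient.mk _), Ideal.Quotient.eq] at hv
  have h := (coeff_single_mem α _ hv).1
  simp at h
  rw [← Ideal.eq_top_iff_one, Ideal.span_singleton_eq_top] at h
  exact hα h

lemma mem_span (α β : A) (hα : α ∈ maximalIdeal A) (hβ : β ∈ maximalIdeal A)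
    (φ : (P ⧸ Ideal.span {(X 0 * X 1 - C α : P)}) ≃ₐ[A] (P ⧸ Ideal.span {(X 0 * X 1 - C β : P)})) :
    α ∈ Ideal.span {β} := by
  classical
  set q := Ideal.Quotient.mk (Ideal.span {(X 0 * X 1 - C α : P)}) with hq
  set r := Ideal.Quotient.mk (Ideal.span {(X 0 * X 1 - C β : P)}) with hr
  obtain ⟨F, hF⟩ := Ideal.Quotient.mk_surjective (φ (q (X 0)))
  obtain ⟨G, hG⟩ := Ideal.Quotient.mk_surjective (φ (q (X 1)))
  have hφC : ∀ a, φ (q (C a)) = r (C a) := fun a => φ.commutes a
  have h1 : F * G - C α ∈ Ideal.span {(X 0 * X 1 - C β : P)} := by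
    rw [← Ideal.Quotient.eq_zero_iff_mem]
    have : q (X 0 * X 1 - C α) = 0 :=
      Ideal.Quotient.eq_zero_iff_mem.2 (Ideal.mem_span_singleton_self _)
    have := congrArg φ this
    simp only [map_sub, map_mul, map_zero, hφC] at this
    rw [← hF, ← hG] at this
    simpa only [map_sub, map_mul] using this
  obtain ⟨h10, h11⟩ := coeff_single_mem β _ h1
  rw [map_sub, map_mul, constantCoeff_C] at h10
  have h11' : ∀ i, constantCoeff F * coeff (single i 1) G + coeff (single i 1) F * constantCoeff G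
      ∈ Ideal.span {β} := fun i => by
    have := h11 i
    rwa [map_sub, coeff_single_mul, coeff_C, if_neg (by simp), sub_zero] at this
  have hF0 : constantCoeff F ∈ maximalIdeal A := constantCoeff_mem_of_iso hα φ 0 F hF.symm
  have hG0 : constantCoeff G ∈ maximalIdeal A := constantCoeff_mem_of_iso hα φ 1 G hG.symm
  have hle : Ideal.span {β} ≤ maximalIdeal A := by simpa [Ideal.span_singleton_le_iff_mem]
  have key : ∀ j, ∃ a b : A, ∀ i, ((if i = j then 1 else 0) -
      (coeff (single i 1) F * a + coeff (single i 1) G * b)) ∈ maximalIdeal A := by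
    intro j
    obtain ⟨U, hU⟩ := Ideal.Quotient.mk_surjective (φ.symm (r (X j)))
    obtain ⟨U₁, U₂, hU'⟩ := exists_decomp U
    obtain ⟨V₁, hV₁⟩ := Ideal.Quotient.mk_surjective (φ (q U₁))
    obtain ⟨V₂, hV₂⟩ := Ideal.Quotient.mk_surjective (φ (q U₂))
    have h2 : r (X j) = r (C (constantCoeff U) + F * V₁ + G * V₂) := by
      rw [← φ.apply_symm_apply (r (X j)), ← hU]
      conv_lhs => rw [hU']
      simp only [map_add, map_mul]
      rw [← hF, ← hG, ← hV₁, ← hV₂, hφC]
    refine ⟨constantCoeff V₁, constantCoeff V₂, fun i => ?_⟩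
    have h3 := hle ((coeff_single_mem β _ (Ideal.Quotient.eq.1 h2)).2 i)
    rw [map_sub, map_add, map_add, coeff_single_mul, coeff_single_mul, coeff_C,
      if_neg (by simp), zero_add, coeff_X] at h3
    have hc : (if (single i 1 : Fin 2 →₀ ℕ) = single j 1 then (1:A) else 0) =
        if i = j then 1 else 0 := by
      simp only [Finsupp.single_left_inj one_ne_zero]
    rw [hc] at h3
    convert add_mem h3 (add_mem (Ideal.mul_mem_right (coeff (single i 1) V₁) _ hF0)
      (Ideal.mul_mem_right (coeff (single i 1) V₂) _ hG0)) using 1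
    ring
  choose a b hab using key
  have hD : IsUnit (coeff (single 0 1) F * coeff (single 1 1) G
      - coeff (single 0 1) G * coeff (single 1 1) F) := by
    let f := residue A
    have e : ∀ i j, f (coeff (single i 1) F) * f (a j) + f (coeff (single i 1) G) * f (b j) =
        if i = j then 1 else 0 := fun i j => by
      have := (residue_eq_zero_iff _).2 (hab j i)
      rw [map_sub, map_add, map_mul, map_mul, sub_eq_zero] at this
      rw [← this]
      split_ifs <;> simp
    rw [← isUnit_map_iff f, map_sub, map_mul, map_mul, isUnit_iff_exists_inv]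
    refine ⟨f (a 0) * f (b 1) - f (a 1) * f (b 0), ?_⟩
    have e00 := e 0 0
    have e01 := e 0 1
    have e10 := e 1 0
    have e11 := e 1 1
    simp at e00 e01 e10 e11
    linear_combination (f (coeff (single 1 1) F) * f (a 1) + f (coeff (single 1 1) G) * f (b 1)) * e00
      + e11 - (f (coeff (single 1 1) F) * f (a 0) + f (coeff (single 1 1) G) * f (b 0)) * e01
  have hF' : constantCoeff F ∈ Ideal.span {β} := by
    obtain ⟨v, hv⟩ := hD.exists_right_inv
    have := Ideal.mul_mem_right v _ (sub_mem (Ideal.mul_mem_left _ (coeff (single 0 1) F) (h11' 1))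
      (Ideal.mul_mem_left _ (coeff (single 1 1) F) (h11' 0)))
    convert this using 1
    linear_combination (- constantCoeff F) * hv
  have := sub_mem (Ideal.mul_mem_right (constantCoeff G) _ hF') h10
  simpa using this

end NodeDefLib
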